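import Mathlib
import Cfsg.Agent.StdSpSix.TR
set_option linter.all false

/-!
# Growth of doubled root groups

`t` is an involution, `V 0, V 1, …` are elementary abelian 2-groups normalised by `t` on which `t` acts freely,
`⁅V i, V j⁆ ≤ W (min i j)` where `W k = ⟨V i : i < k⟩`, and the fixed point groups `X i = C_{V i}(t)` are independent in
the sense that `X k ⊓ U k = ⊥`, `U k = ⟨X i : i < k⟩`. Then `C_{W k}(t) = U k`, every involution of `t W k` is conjugate
to `t` under `W k`, and if `⟨t⟩ U n` has odd index in `C_G(t)` then `G` has a subgroup of index 2 which does not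
contain `t`.
-/

set_option autoImplicit false
set_option linter.unusedSectionVars false

namespace Cfsg.Agent.Doubling.Growth

variable {G : Type*} [Group G]

/-- The group generated by the first `k` terms. -/
def W (V : ℕ → Subgroup G) (k : ℕ) : Subgroup G := ⨆ i : ℕ, ⨆ _ : i < k, V i

theorem le_W (V : ℕ → Subgroup G) {i k : ℕ} (h : i < k) : V i ≤ W V k :=
  le_iSup₂_of_le (f := fun i (_ : i < k) => V i) i h le_rfl

theorem W_mono (V : ℕ → Subgroup G) {j k : ℕ} (h : j ≤ k) : W V j ≤ W V k :=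
  iSup₂_le fun _ hi => le_W V (lt_of_lt_of_le hi h)

theorem W_zero (V : ℕ → Subgroup G) : W V 0 = ⊥ := by
  rw [eq_bot_iff]
  exact iSup₂_le fun i hi => absurd hi (Nat.not_lt_zero i)

theorem W_succ (V : ℕ → Subgroup G) (k : ℕ) : W V (k + 1) = W V k ⊔ V k := by
  apply le_antisymm
  · refine iSup₂_le fun i hi => ?_
    rcases Nat.lt_succ_iff_lt_or_eq.1 hi with h | rfl
    · exact le_sup_of_le_left (le_W V h)
    · exact le_sup_right
  · exact sup_le (W_mono V (Nat.le_succ k)) (le_W V (Nat.lt_succ_self k))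

/-- The hypotheses: `V i` doubled root groups, `X i` root groups. -/
structure Dbl (t : G) (V X : ℕ → Subgroup G) (n : ℕ) : Prop where
  tt : t * t = 1
  conj : ∀ i < n, ∀ v ∈ V i, t * v * t ∈ V i
  sq : ∀ i < n, ∀ v ∈ V i, v * v = 1
  fix : ∀ i < n, ∀ v ∈ V i, t * v * t = v → v ∈ X i
  X_le : ∀ i < n, X i ≤ V i
  X_fix : ∀ i < n, ∀ v ∈ X i, t * v * t = v
  free : ∀ i < n, ∀ v ∈ X i, ∃ c ∈ V i, v = t * c * t * c⁻¹
  comm : ∀ i j, i < j → j < n → ∀ v ∈ V i, ∀ w ∈ V j, v * w * v⁻¹ * w⁻¹ ∈ W V i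
  indep : ∀ k < n, X k ⊓ W X k = ⊥

namespace Dbl

variable {t : G} {V X : ℕ → Subgroup G} {n : ℕ}

theorem t_inv (h : Dbl t V X n) : t⁻¹ = t := inv_eq_of_mul_eq_one_left h.tt

theorem conj_mul (h : Dbl t V X n) (a b : G) : t * (a * b) * t = (t * a * t) * (t * b * t) := by
  calc t * (a * b) * t = t * a * 1 * b * t := by group
    _ = t * a * (t * t) * b * t := by rw [h.tt]
    _ = (t * a * t) * (t * b * t) := by group

theorem conj_inv (h : Dbl t V X n) (a : G) : t * a⁻¹ * t = (t * a * t)⁻¹ := by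
  rw [mul_inv_rev, mul_inv_rev, h.t_inv, mul_assoc]

theorem conj_conj (h : Dbl t V X n) (a : G) : t * (t * a * t) * t = a := by
  calc t * (t * a * t) * t = (t * t) * a * (t * t) := by group
    _ = a := by rw [h.tt, one_mul, mul_one]

/-- Conjugation by `t`. -/
theorem conj_W (h : Dbl t V X n) {k : ℕ} (hk : k ≤ n) {w : G} (hw : w ∈ W V k) : t * w * t ∈ W V k := by
  have hle : W V k ≤ (W V k).comap (MulAut.conj t).toMonoidHom := by
    refine iSup₂_le fun i hi v hv => ?_
    show t * v * t⁻¹ ∈ W V k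
    rw [h.t_inv]
    exact le_W V hi (h.conj i (lt_of_lt_of_le hi hk) v hv)
  have h1 : t * w * t⁻¹ ∈ W V k := hle hw
  rwa [h.t_inv] at h1

/-- `V j` normalises `W k` for `k ≤ j`. -/
theorem normal (h : Dbl t V X n) {k j : ℕ} (hkj : k ≤ j) (hj : j < n) {v w : G} (hv : v ∈ V j) (hw : w ∈ W V k) :
    v * w * v⁻¹ ∈ W V k := by
  have hle : W V k ≤ (W V k).comap (MulAut.conj v).toMonoidHom := by
    refine iSup₂_le fun i hi u hu => ?_
    show v * u * v⁻¹ ∈ W V k
    have h1 := h.comm i j (lt_of_lt_of_le hi hkj) hj u hu v hv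
    have h2 := (W V k).mul_mem ((W V k).inv_mem (W_mono V hi.le h1)) (le_W V hi hu)
    have h3 : (u * v * u⁻¹ * v⁻¹)⁻¹ * u = v * u * v⁻¹ := by group
    rwa [h3] at h2
  exact hle hw

theorem mem_succ (h : Dbl t V X n) {k : ℕ} (hk : k < n) {w : G} (hw : w ∈ W V (k + 1)) :
    ∃ u ∈ W V k, ∃ v ∈ V k, w = u * v := by
  let S : Subgroup G :=
    { carrier := {w | ∃ u ∈ W V k, ∃ v ∈ V k, w = u * v}
      one_mem' := ⟨1, one_mem _, 1, one_mem _, (mul_one 1).symm⟩
      mul_mem' := by
        rintro _ _ ⟨u, hu, v, hv, rfl⟩ ⟨u', hu', v', hv', rfl⟩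
        exact ⟨u * (v * u' * v⁻¹), mul_mem hu (h.normal le_rfl hk hv hu'), v * v', mul_mem hv hv', by group⟩
      inv_mem' := by
        rintro _ ⟨u, hu, v, hv, rfl⟩
        exact ⟨v⁻¹ * u⁻¹ * v⁻¹⁻¹, h.normal le_rfl hk (inv_mem hv) (inv_mem hu), v⁻¹, inv_mem hv, by group⟩ }
  have hS : W V (k + 1) ≤ S := by
    rw [W_succ, sup_le_iff]
    exact ⟨fun u hu => ⟨u, hu, 1, one_mem _, (mul_one u).symm⟩, fun v hv => ⟨1, one_mem _, v, hv, (one_mul v).symm⟩⟩
  exact hS hw

/-- The induction. -/
theorem main (h : Dbl t V X n) (k : ℕ) : k ≤ n →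
    (∀ w ∈ W V k, t * w * t = w → w ∈ W X k) ∧
    (∀ w ∈ W V k, t * w * t = w⁻¹ → ∃ c ∈ W V k, w = t * c * t * c⁻¹) := by
  induction k with
  | zero =>
    intro _
    rw [W_zero, W_zero]
    constructor
    · intro w hw _
      exact hw
    · intro w hw _
      refine ⟨1, one_mem _, ?_⟩
      rw [Subgroup.mem_bot.1 hw, mul_one, h.tt, one_mul, inv_one]
  | succ k ih =>
    intro hk
    have hk' : k < n := hk
    obtain ⟨h1, h2⟩ := ih hk'.le
    -- `V k ⊓ W k = ⊥`
    have hX : ∀ v ∈ V k, v ∈ W V k → t * v * t = v → v = 1 := by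
      intro v hv hw hf
      have h3 : v ∈ X k ⊓ W X k := ⟨h.fix k hk' v hv hf, h1 v hw hf⟩
      rw [h.indep k hk'] at h3
      exact Subgroup.mem_bot.1 h3
    have hV : ∀ v ∈ V k, v ∈ W V k → v = 1 := by
      intro v hv hw
      have hv' := h.conj k hk' v hv
      have hw' := h.conj_W hk'.le hw
      have hcomm : ∀ a ∈ V k, ∀ b ∈ V k, a * b = b * a := by
        intro a ha b hb
        have e1 := h.sq k hk' (a * b) (mul_mem ha hb)
        have e2 := h.sq k hk' a ha
        have e3 := h.sq k hk' b hb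
        calc a * b = a * ((a * b) * (a * b)) * b := by rw [e1, mul_one]
          _ = (a * a) * (b * a) * (b * b) := by group
          _ = b * a := by rw [e2, e3, one_mul, mul_one]
      have e : v * (t * v * t) = 1 := by
        apply hX _ (mul_mem hv hv') (mul_mem hw hw')
        rw [h.conj_mul, h.conj_conj]
        exact hcomm _ hv' _ hv
      have e1 : t * v * t = v := by
        have e2 := h.sq k hk' v hv
        exact mul_left_cancel (e.trans e2.symm)
      exact hX v hv hw e1
    constructor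
    · intro w hw hf
      obtain ⟨u, hu, v, hv, rfl⟩ := h.mem_succ hk' hw
      rw [h.conj_mul] at hf
      have hu' := h.conj_W hk'.le hu
      have hv' := h.conj k hk' v hv
      have e1 : u⁻¹ * (t * u * t) = v * (t * v * t)⁻¹ := by
        rw [inv_mul_eq_iff_eq_mul, ← mul_assoc, eq_mul_inv_iff_mul_eq]
        exact hf
      have e2 : v * (t * v * t)⁻¹ = 1 := hV _ (mul_mem hv (inv_mem hv')) (by
        rw [← e1]
        exact mul_mem (inv_mem hu) hu')
      have e3 : t * v * t = v := (mul_inv_eq_one.1 e2).symm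
      have e4 : t * u * t = u := by
        rw [e2, inv_mul_eq_one] at e1
        exact e1.symm
      exact mul_mem (W_mono X (Nat.le_succ k) (h1 u hu e4)) (le_W X (Nat.lt_succ_self k) (h.fix k hk' v hv e3))
    · intro w hw hf
      obtain ⟨u, hu, v, hv, rfl⟩ := h.mem_succ hk' hw
      have hu' := h.conj_W hk'.le hu
      have hv' := h.conj k hk' v hv
      rw [h.conj_mul, mul_inv_rev] at hf
      -- modulo `W k`
      have e1 : (t * v * t) * v = (t * u * t)⁻¹ * (v⁻¹ * u⁻¹ * v⁻¹⁻¹) := by
        calc (t * v * t) * v = (t * u * t)⁻¹ * ((t * u * t) * (t * v * t)) * v := by group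
          _ = (t * u * t)⁻¹ * (v⁻¹ * u⁻¹ * v⁻¹⁻¹) := by rw [hf]; group
      have e2 : (t * v * t) * v = 1 := hV _ (mul_mem hv' hv) (by
        rw [e1]
        exact mul_mem (inv_mem hu') (h.normal le_rfl hk' (inv_mem hv) (inv_mem hu)))
      have e3 : t * v * t = v := by
        have e4 := h.sq k hk' v hv
        exact mul_right_cancel (e2.trans e4.symm)
      obtain ⟨c, hc, hvc⟩ := h.free k hk' v (h.fix k hk' v hv e3)
      have hc' := h.conj k hk' c hc
      set w' := (t * c * t)⁻¹ * u * (t * c * t) with hw'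
      have hw'm : w' ∈ W V k := by
        have := h.normal le_rfl hk' (inv_mem hc') hu
        rwa [inv_inv] at this
      have e5 : u * v = (t * c * t) * w' * c⁻¹ := by
        rw [hw', hvc]
        group
      have e6 : t * w' * t = w'⁻¹ := by
        have e7 : w' = (t * c * t)⁻¹ * (u * v) * c := by
          rw [e5]
          group
        rw [e7, h.conj_mul, h.conj_mul, h.conj_inv, h.conj_conj, h.conj_mul, hf]
        group
      obtain ⟨d, hd, hwd⟩ := h2 w' hw'm e6
      refine ⟨c * d, mul_mem (le_W V (Nat.lt_succ_self k) hc) (W_mono V (Nat.le_succ k) hd), ?_⟩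
      rw [e5, hwd, h.conj_mul]
      group

theorem U_le (h : Dbl t V X n) {k : ℕ} (hk : k ≤ n) : W X k ≤ W V k :=
  iSup₂_le fun i hi => (h.X_le i (lt_of_lt_of_le hi hk)).trans (le_W V hi)

theorem U_fix (h : Dbl t V X n) {k : ℕ} (hk : k ≤ n) {w : G} (hw : w ∈ W X k) : t * w * t = w := by
  let S : Subgroup G := Subgroup.centralizer {t}
  have hS : W X k ≤ S := by
    refine iSup₂_le fun i hi v hv => ?_
    rw [Subgroup.mem_centralizer_singleton_iff]
    have h1 := h.X_fix i (lt_of_lt_of_le hi hk) v hv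
    calc v * t = t * v * t * t := by rw [h1]
      _ = t * v * (t * t) := by group
      _ = t * v := by rw [h.tt, mul_one]
  have h1 := Subgroup.mem_centralizer_singleton_iff.1 (hS hw)
  rw [mul_assoc, h1, ← mul_assoc, h.tt, one_mul]

/-- The fixed points of `t`. -/
theorem mem_U_iff (h : Dbl t V X n) {k : ℕ} (hk : k ≤ n) {w : G} :
    w ∈ W X k ↔ w ∈ W V k ∧ t * w * t = w :=
  ⟨fun hw => ⟨h.U_le hk hw, h.U_fix hk hw⟩, fun hw => (h.main k hk).1 w hw.1 hw.2⟩

/-- Every involution of `t W` is conjugate to `t`. -/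
theorem exists_conj (h : Dbl t V X n) {w : G} (hw : w ∈ W V n) (hinv : (t * w) * (t * w) = 1) :
    ∃ c ∈ W V n, t * w = c * t * c⁻¹ := by
  have h1 : t * w * t = w⁻¹ := by
    rw [eq_inv_iff_mul_eq_one, ← hinv]
    group
  obtain ⟨c, hc, hwc⟩ := (h.main n le_rfl).2 w hw h1
  refine ⟨c, hc, ?_⟩
  rw [hwc]
  calc t * (t * c * t * c⁻¹) = (t * t) * c * t * c⁻¹ := by group
    _ = c * t * c⁻¹ := by rw [h.tt, one_mul]

/-- The group `W ⟨t⟩`. -/
def H (h : Dbl t V X n) : Subgroup G where
  carrier := {g | g ∈ W V n ∨ t * g ∈ W V n}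
  one_mem' := Or.inl (one_mem _)
  mul_mem' := by
    rintro a b (ha | ha) (hb | hb)
    · exact Or.inl (mul_mem ha hb)
    · right
      have h1 := mul_mem (h.conj_W le_rfl ha) hb
      have h2 : t * a * t * (t * b) = t * (a * b) := by
        calc t * a * t * (t * b) = t * a * (t * t) * b := by group
          _ = t * (a * b) := by rw [h.tt]; group
      rwa [h2] at h1
    · right
      have h1 := mul_mem ha hb
      rwa [mul_assoc] at h1
    · left
      have h1 := mul_mem (h.conj_W le_rfl ha) hb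
      have h2 : t * (t * a) * t * (t * b) = a * b := by
        calc t * (t * a) * t * (t * b) = (t * t) * a * (t * t) * b := by group
          _ = a * b := by rw [h.tt]; group
      rwa [h2] at h1
  inv_mem' := by
    rintro a (ha | ha)
    · exact Or.inl (inv_mem ha)
    · right
      have h1 := h.conj_W le_rfl (inv_mem ha)
      rw [mul_inv_rev, h.t_inv] at h1
      have h2 : t * (a⁻¹ * t) * t = t * a⁻¹ := by
        calc t * (a⁻¹ * t) * t = t * a⁻¹ * (t * t) := by group
          _ = t * a⁻¹ := by rw [h.tt, mul_one]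
      rwa [h2] at h1

theorem mem_H (h : Dbl t V X n) {g : G} : g ∈ h.H ↔ g ∈ W V n ∨ t * g ∈ W V n := Iff.rfl

theorem t_mem_H (h : Dbl t V X n) : t ∈ h.H := Or.inr (by rw [h.tt]; exact one_mem _)

open Classical in
/-- The sign with kernel `W`. -/
noncomputable def sign (h : Dbl t V X n) (ht : t ∉ W V n) : h.H →* ℤˣ where
  toFun g := if (g : G) ∈ W V n then 1 else -1
  map_one' := if_pos (one_mem _)
  map_mul' := by
    rintro ⟨a, ha⟩ ⟨b, hb⟩
    have key : ∀ g ∈ h.H, g ∉ W V n → t * g ∈ W V n := fun g hg hn => hg.resolve_left hn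
    have htg : ∀ g, g ∈ W V n → t * g ∉ W V n := by
      intro g hg hn
      apply ht
      have := mul_mem hn (inv_mem hg)
      rwa [mul_inv_cancel_right] at this
    simp only [MulMemClass.mk_mul_mk]
    by_cases h1 : a ∈ W V n <;> by_cases h2 : b ∈ W V n
    · rw [if_pos h1, if_pos h2, if_pos (mul_mem h1 h2), one_mul]
    · have h3 : a * b ∉ W V n := fun hn => h2 (by
        have := mul_mem (inv_mem h1) hn
        rwa [inv_mul_cancel_left] at this)
      rw [if_pos h1, if_neg h2, if_neg h3, one_mul]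
    · have h3 : a * b ∉ W V n := fun hn => h1 (by
        have := mul_mem hn (inv_mem h2)
        rwa [mul_inv_cancel_right] at this)
      rw [if_neg h1, if_pos h2, if_neg h3, mul_one]
    · have h4 := key a ha h1
      have h5 := key b hb h2
      have h6 := mul_mem (h.conj_W le_rfl h4) h5
      have h7 : t * (t * a) * t * (t * b) = a * b := by
        calc t * (t * a) * t * (t * b) = (t * t) * a * (t * t) * b := by group
          _ = a * b := by rw [h.tt]; group
      rw [h7] at h6
      rw [if_neg h1, if_neg h2, if_pos h6]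
      rfl

theorem sign_apply (h : Dbl t V X n) (ht : t ∉ W V n) (g : h.H) :
    h.sign ht g = -1 ↔ (g : G) ∉ W V n := by
  classical
  show (if (g : G) ∈ W V n then (1 : ℤˣ) else -1) = -1 ↔ _
  by_cases h1 : (g : G) ∈ W V n
  · rw [if_pos h1]
    exact ⟨fun h => absurd h (by decide), fun h => absurd h1 h⟩
  · rw [if_neg h1]
    exact ⟨fun _ => h1, fun _ => rfl⟩

/-- **Growth**: if `⟨t⟩ U` has odd index in the centraliser of `t`, then `t` lies outside a subgroup of index 2. -/
theorem exists_hom [Finite G] (h : Dbl t V X n) (ht : t ∉ W X n)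
    (hodd : Odd ((W X n ⊔ Subgroup.zpowers t).relIndex (Subgroup.centralizer ({t} : Set G)))) :
    ∃ m : G →* ℤˣ, m t = -1 := by
  have htt : t * t * t = t := by rw [h.tt, one_mul]
  have ht' : t ∉ W V n := fun h1 => ht ((h.mem_U_iff le_rfl).2 ⟨h1, htt⟩)
  refine Cfsg.Agent.StdSpSix.TR.exists_hom_of_class (h.sign ht') h.tt h.t_mem_H ((h.sign_apply ht' _).2 ht') ?_ ?_
  · intro g hg hs
    rw [h.sign_apply] at hs
    have h1 : t * (g⁻¹ * t * g) ∈ W V n := hg.resolve_left hs
    have h2 : t * (t * (g⁻¹ * t * g)) = g⁻¹ * t * g := by rw [← mul_assoc, h.tt, one_mul]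
    have h3 : (g⁻¹ * t * g) * (g⁻¹ * t * g) = 1 := by
      calc (g⁻¹ * t * g) * (g⁻¹ * t * g) = g⁻¹ * (t * t) * g := by group
        _ = 1 := by rw [h.tt]; group
    obtain ⟨c, hc, hcc⟩ := h.exists_conj h1 (by rw [h2]; exact h3)
    rw [h2] at hcc
    exact ⟨c, Or.inl hc, hcc⟩
  · have h1 : h.H.relIndex (Subgroup.centralizer ({t} : Set G)) =
        (W X n ⊔ Subgroup.zpowers t).relIndex (Subgroup.centralizer ({t} : Set G)) := by
      rw [← Subgroup.inf_relIndex_right, ← Subgroup.inf_relIndex_right (W X n ⊔ Subgroup.zpowers t)]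
      congr 1
      apply le_antisymm
      · rintro g ⟨hg, hc⟩
        refine ⟨?_, hc⟩
        have hc' := Subgroup.mem_centralizer_singleton_iff.1 hc
        rcases hg with hg | hg
        · refine Subgroup.mem_sup_left ((h.mem_U_iff le_rfl).2 ⟨hg, ?_⟩)
          rw [mul_assoc, hc', ← mul_assoc, h.tt, one_mul]
        · have h4 : t * g ∈ W X n := (h.mem_U_iff le_rfl).2 ⟨hg, by
            rw [mul_assoc, mul_assoc, hc', ← mul_assoc, ← mul_assoc, h.tt, one_mul]⟩
          have h5 : g = t⁻¹ * (t * g) := by group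
          rw [h5]
          exact mul_mem (Subgroup.mem_sup_right (inv_mem (Subgroup.mem_zpowers t))) (Subgroup.mem_sup_left h4)
      · refine le_inf ?_ inf_le_right
        refine inf_le_left.trans (sup_le ?_ ?_)
        · exact fun g hg => Or.inl (h.U_le le_rfl hg)
        · rw [Subgroup.zpowers_le]
          exact h.t_mem_H
    rw [h1]
    exact hodd

end Dbl

end Cfsg.Agent.Doubling.Growth
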